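import Cfsg.Agent.H94.J4.Preds
import Cfsg.Agent.H94.J4.Lev
import Cfsg.Agent.H94.J4.Data.Levels

/-! The chains of the stabilisers. -/

set_option autoImplicit false
set_option maxRecDepth 100000
set_option Elab.async false

namespace H94.J4

open H77.HN (allBelow allBelow_glue)

theorem hl_fix : (cert.hl.all fun l => Nat.beq (T l 0) 0) = true := by decide +kernel

theorem levelsH_ok : chainR T cert.hl 15180 [] Data.levelsH = true ∧
    15180 * ordR Data.levelsH = 2048 * 244823040 ∧
    0 :: Data.levelsH.map Prod.fst = cert.B := by decide +kernel

theorem levels1_ok : chainR T (cert.sg 1) 15180 [] Data.levels1 = true ∧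
    15180 * ordR Data.levels1 = 2048 * 244823040 := by decide +kernel

theorem levels2_ok : chainR T (cert.sg 2) 15180 [] Data.levels2 = true ∧
    3400320 * ordR Data.levels2 = 2048 * 244823040 := by decide +kernel

theorem levels3_ok : chainR T (cert.sg 3) 15180 [] Data.levels3 = true ∧
    32643072 * ordR Data.levels3 = 2048 * 244823040 := by decide +kernel

theorem levels4_ok : chainR T (cert.sg 4) 15180 [] Data.levels4 = true ∧
    28336 * ordR Data.levels4 = 2048 * 244823040 := by decide +kernel

theorem levels5_ok : chainR T (cert.sg 5) 15180 [] Data.levels5 = true ∧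
    54405120 * ordR Data.levels5 = 2048 * 244823040 := by decide +kernel

theorem levels6_ok : chainR T (cert.sg 6) 15180 [] Data.levels6 = true ∧
    82575360 * ordR Data.levels6 = 2048 * 244823040 := by decide +kernel

end H94.J4
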