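import Cfsg.Agent.H94.J4.Preds

/-! The tree of the orbit 0 has a single root. -/

set_option autoImplicit false
set_option maxRecDepth 100000
set_option Elab.async false

namespace H94.J4

open H77.HN (allBelow allBelow_glue)

theorem orb0_0 : allBelow (fun c => Nat.beq (cert.orb 0 c) 0) 0 1518 = true := by decide +kernel

theorem orb0_1 : allBelow (fun c => Nat.beq (cert.orb 0 c) 0) 1518 1518 = true := by decide +kernel

theorem orb0_2 : allBelow (fun c => Nat.beq (cert.orb 0 c) 0) 3036 1518 = true := by decide +kernel

theorem orb0_3 : allBelow (fun c => Nat.beq (cert.orb 0 c) 0) 4554 1518 = true := by decide +kernel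

theorem orb0_4 : allBelow (fun c => Nat.beq (cert.orb 0 c) 0) 6072 1518 = true := by decide +kernel

theorem orb0_5 : allBelow (fun c => Nat.beq (cert.orb 0 c) 0) 7590 1518 = true := by decide +kernel

theorem orb0_6 : allBelow (fun c => Nat.beq (cert.orb 0 c) 0) 9108 1518 = true := by decide +kernel

theorem orb0_7 : allBelow (fun c => Nat.beq (cert.orb 0 c) 0) 10626 1518 = true := by decide +kernel

theorem orb0_8 : allBelow (fun c => Nat.beq (cert.orb 0 c) 0) 12144 1518 = true := by decide +kernel

theorem orb0_9 : allBelow (fun c => Nat.beq (cert.orb 0 c) 0) 13662 1518 = true := by decide +kernel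

theorem orb0_ok : allBelow (fun c => Nat.beq (cert.orb 0 c) 0) 0 15180 = true :=
  (allBelow_glue (allBelow_glue (allBelow_glue (allBelow_glue (allBelow_glue (allBelow_glue (allBelow_glue (allBelow_glue (allBelow_glue orb0_0 orb0_1) orb0_2) orb0_3) orb0_4) orb0_5) orb0_6) orb0_7) orb0_8) orb0_9)

end H94.J4
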