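import Cfsg.Agent.H94.J4.Preds

/-! The tree of an orbit. -/

set_option autoImplicit false
set_option maxRecDepth 100000
set_option Elab.async false

namespace H94.J4

open H77.HN (allBelow allBelow_glue)

theorem tree1_0 : allBelow (cert.treeEntry 1) 0 1518 = true := by decide +kernel

theorem tree1_1 : allBelow (cert.treeEntry 1) 1518 1518 = true := by decide +kernel

theorem tree1_2 : allBelow (cert.treeEntry 1) 3036 1518 = true := by decide +kernel

theorem tree1_3 : allBelow (cert.treeEntry 1) 4554 1518 = true := by decide +kernel

theorem tree1_4 : allBelow (cert.treeEntry 1) 6072 1518 = true := by decide +kernel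

theorem tree1_5 : allBelow (cert.treeEntry 1) 7590 1518 = true := by decide +kernel

theorem tree1_6 : allBelow (cert.treeEntry 1) 9108 1518 = true := by decide +kernel

theorem tree1_7 : allBelow (cert.treeEntry 1) 10626 1518 = true := by decide +kernel

theorem tree1_8 : allBelow (cert.treeEntry 1) 12144 1518 = true := by decide +kernel

theorem tree1_9 : allBelow (cert.treeEntry 1) 13662 1518 = true := by decide +kernel

theorem tree1_ok : allBelow (cert.treeEntry 1) 0 15180 = true :=
  (allBelow_glue (allBelow_glue (allBelow_glue (allBelow_glue (allBelow_glue (allBelow_glue (allBelow_glue (allBelow_glue (allBelow_glue tree1_0 tree1_1) tree1_2) tree1_3) tree1_4) tree1_5) tree1_6) tree1_7) tree1_8) tree1_9)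

end H94.J4
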