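import Cfsg.Agent.H94.J4.Preds

/-! The tree of an orbit. -/

set_option autoImplicit false
set_option maxRecDepth 100000
set_option Elab.async false

namespace H94.J4

open H77.HN (allBelow allBelow_glue)

theorem tree5_0 : allBelow (cert.treeEntry 5) 0 1518 = true := by decide +kernel

theorem tree5_1 : allBelow (cert.treeEntry 5) 1518 1518 = true := by decide +kernel

theorem tree5_2 : allBelow (cert.treeEntry 5) 3036 1518 = true := by decide +kernel

theorem tree5_3 : allBelow (cert.treeEntry 5) 4554 1518 = true := by decide +kernel

theorem tree5_4 : allBelow (cert.treeEntry 5) 6072 1518 = true := by decide +kernel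

theorem tree5_5 : allBelow (cert.treeEntry 5) 7590 1518 = true := by decide +kernel

theorem tree5_6 : allBelow (cert.treeEntry 5) 9108 1518 = true := by decide +kernel

theorem tree5_7 : allBelow (cert.treeEntry 5) 10626 1518 = true := by decide +kernel

theorem tree5_8 : allBelow (cert.treeEntry 5) 12144 1518 = true := by decide +kernel

theorem tree5_9 : allBelow (cert.treeEntry 5) 13662 1518 = true := by decide +kernel

theorem tree5_ok : allBelow (cert.treeEntry 5) 0 15180 = true :=
  (allBelow_glue (allBelow_glue (allBelow_glue (allBelow_glue (allBelow_glue (allBelow_glue (allBelow_glue (allBelow_glue (allBelow_glue tree5_0 tree5_1) tree5_2) tree5_3) tree5_4) tree5_5) tree5_6) tree5_7) tree5_8) tree5_9)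

end H94.J4
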