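import Cfsg.Agent.H94.J4.Preds

/-! The tree of an orbit. -/

set_option autoImplicit false
set_option maxRecDepth 100000
set_option Elab.async false

namespace H94.J4

open H77.HN (allBelow allBelow_glue)

theorem tree6_0 : allBelow (cert.treeEntry 6) 0 1518 = true := by decide +kernel

theorem tree6_1 : allBelow (cert.treeEntry 6) 1518 1518 = true := by decide +kernel

theorem tree6_2 : allBelow (cert.treeEntry 6) 3036 1518 = true := by decide +kernel

theorem tree6_3 : allBelow (cert.treeEntry 6) 4554 1518 = true := by decide +kernel

theorem tree6_4 : allBelow (cert.treeEntry 6) 6072 1518 = true := by decide +kernel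

theorem tree6_5 : allBelow (cert.treeEntry 6) 7590 1518 = true := by decide +kernel

theorem tree6_6 : allBelow (cert.treeEntry 6) 9108 1518 = true := by decide +kernel

theorem tree6_7 : allBelow (cert.treeEntry 6) 10626 1518 = true := by decide +kernel

theorem tree6_8 : allBelow (cert.treeEntry 6) 12144 1518 = true := by decide +kernel

theorem tree6_9 : allBelow (cert.treeEntry 6) 13662 1518 = true := by decide +kernel

theorem tree6_ok : allBelow (cert.treeEntry 6) 0 15180 = true :=
  (allBelow_glue (allBelow_glue (allBelow_glue (allBelow_glue (allBelow_glue (allBelow_glue (allBelow_glue (allBelow_glue (allBelow_glue tree6_0 tree6_1) tree6_2) tree6_3) tree6_4) tree6_5) tree6_6) tree6_7) tree6_8) tree6_9)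

end H94.J4
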