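import Cfsg.Agent.H94.J4.Check.Tree0
import Cfsg.Agent.H94.J4.Check.Tree1
import Cfsg.Agent.H94.J4.Check.Tree2
import Cfsg.Agent.H94.J4.Check.Tree3
import Cfsg.Agent.H94.J4.Check.Tree4
import Cfsg.Agent.H94.J4.Check.Tree5
import Cfsg.Agent.H94.J4.Check.Tree6

/-! The seven trees. -/

set_option autoImplicit false
set_option maxRecDepth 100000

namespace H94.J4

theorem tree_all : ∀ i < cert.r, ∀ c < cert.np, cert.treeEntry i c = true := by
  intro i hi c hc
  have hi' : i < 7 := hi
  have hc' : c < 0 + 15180 := by simpa using (show c < 15180 from hc)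
  interval_cases i
  · exact H77.HN.allBelow_spec tree0_ok c (Nat.zero_le _) hc'
  · exact H77.HN.allBelow_spec tree1_ok c (Nat.zero_le _) hc'
  · exact H77.HN.allBelow_spec tree2_ok c (Nat.zero_le _) hc'
  · exact H77.HN.allBelow_spec tree3_ok c (Nat.zero_le _) hc'
  · exact H77.HN.allBelow_spec tree4_ok c (Nat.zero_le _) hc'
  · exact H77.HN.allBelow_spec tree5_ok c (Nat.zero_le _) hc'
  · exact H77.HN.allBelow_spec tree6_ok c (Nat.zero_le _) hc'

end H94.J4
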