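import Cfsg.Agent.H94.J4.Preds

/-! The letters respect the triples. -/

set_option autoImplicit false
set_option maxRecDepth 100000
set_option Elab.async false

namespace H94.J4

open H77.HN (allBelow allBelow_glue)

theorem link6_0 : allBelow (linkEntry 6) 0 3036 = true := by decide +kernel

theorem link6_1 : allBelow (linkEntry 6) 3036 3036 = true := by decide +kernel

theorem link6_2 : allBelow (linkEntry 6) 6072 3036 = true := by decide +kernel

theorem link6_3 : allBelow (linkEntry 6) 9108 3036 = true := by decide +kernel

theorem link6_4 : allBelow (linkEntry 6) 12144 3036 = true := by decide +kernel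

theorem link6_ok : allBelow (linkEntry 6) 0 15180 = true :=
  (allBelow_glue (allBelow_glue (allBelow_glue (allBelow_glue link6_0 link6_1) link6_2) link6_3) link6_4)

theorem link7_0 : allBelow (linkEntry 7) 0 3036 = true := by decide +kernel

theorem link7_1 : allBelow (linkEntry 7) 3036 3036 = true := by decide +kernel

theorem link7_2 : allBelow (linkEntry 7) 6072 3036 = true := by decide +kernel

theorem link7_3 : allBelow (linkEntry 7) 9108 3036 = true := by decide +kernel

theorem link7_4 : allBelow (linkEntry 7) 12144 3036 = true := by decide +kernel

theorem link7_ok : allBelow (linkEntry 7) 0 15180 = true :=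
  (allBelow_glue (allBelow_glue (allBelow_glue (allBelow_glue link7_0 link7_1) link7_2) link7_3) link7_4)

theorem link8_0 : allBelow (linkEntry 8) 0 3036 = true := by decide +kernel

theorem link8_1 : allBelow (linkEntry 8) 3036 3036 = true := by decide +kernel

theorem link8_2 : allBelow (linkEntry 8) 6072 3036 = true := by decide +kernel

theorem link8_3 : allBelow (linkEntry 8) 9108 3036 = true := by decide +kernel

theorem link8_4 : allBelow (linkEntry 8) 12144 3036 = true := by decide +kernel

theorem link8_ok : allBelow (linkEntry 8) 0 15180 = true :=
  (allBelow_glue (allBelow_glue (allBelow_glue (allBelow_glue link8_0 link8_1) link8_2) link8_3) link8_4)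

theorem link9_0 : allBelow (linkEntry 9) 0 3036 = true := by decide +kernel

theorem link9_1 : allBelow (linkEntry 9) 3036 3036 = true := by decide +kernel

theorem link9_2 : allBelow (linkEntry 9) 6072 3036 = true := by decide +kernel

theorem link9_3 : allBelow (linkEntry 9) 9108 3036 = true := by decide +kernel

theorem link9_4 : allBelow (linkEntry 9) 12144 3036 = true := by decide +kernel

theorem link9_ok : allBelow (linkEntry 9) 0 15180 = true :=
  (allBelow_glue (allBelow_glue (allBelow_glue (allBelow_glue link9_0 link9_1) link9_2) link9_3) link9_4)

theorem link10_0 : allBelow (linkEntry 10) 0 3036 = true := by decide +kernel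

theorem link10_1 : allBelow (linkEntry 10) 3036 3036 = true := by decide +kernel

theorem link10_2 : allBelow (linkEntry 10) 6072 3036 = true := by decide +kernel

theorem link10_3 : allBelow (linkEntry 10) 9108 3036 = true := by decide +kernel

theorem link10_4 : allBelow (linkEntry 10) 12144 3036 = true := by decide +kernel

theorem link10_ok : allBelow (linkEntry 10) 0 15180 = true :=
  (allBelow_glue (allBelow_glue (allBelow_glue (allBelow_glue link10_0 link10_1) link10_2) link10_3) link10_4)

theorem link11_0 : allBelow (linkEntry 11) 0 3036 = true := by decide +kernel

theorem link11_1 : allBelow (linkEntry 11) 3036 3036 = true := by decide +kernel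

theorem link11_2 : allBelow (linkEntry 11) 6072 3036 = true := by decide +kernel

theorem link11_3 : allBelow (linkEntry 11) 9108 3036 = true := by decide +kernel

theorem link11_4 : allBelow (linkEntry 11) 12144 3036 = true := by decide +kernel

theorem link11_ok : allBelow (linkEntry 11) 0 15180 = true :=
  (allBelow_glue (allBelow_glue (allBelow_glue (allBelow_glue link11_0 link11_1) link11_2) link11_3) link11_4)

end H94.J4
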