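import Cfsg.Agent.H94.J4.Preds

/-! The letters respect the triples. -/

set_option autoImplicit false
set_option maxRecDepth 100000
set_option Elab.async false

namespace H94.J4

open H77.HN (allBelow allBelow_glue)

theorem link12_0 : allBelow (linkEntry 12) 0 3036 = true := by decide +kernel

theorem link12_1 : allBelow (linkEntry 12) 3036 3036 = true := by decide +kernel

theorem link12_2 : allBelow (linkEntry 12) 6072 3036 = true := by decide +kernel

theorem link12_3 : allBelow (linkEntry 12) 9108 3036 = true := by decide +kernel

theorem link12_4 : allBelow (linkEntry 12) 12144 3036 = true := by decide +kernel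

theorem link12_ok : allBelow (linkEntry 12) 0 15180 = true :=
  (allBelow_glue (allBelow_glue (allBelow_glue (allBelow_glue link12_0 link12_1) link12_2) link12_3) link12_4)

theorem link13_0 : allBelow (linkEntry 13) 0 3036 = true := by decide +kernel

theorem link13_1 : allBelow (linkEntry 13) 3036 3036 = true := by decide +kernel

theorem link13_2 : allBelow (linkEntry 13) 6072 3036 = true := by decide +kernel

theorem link13_3 : allBelow (linkEntry 13) 9108 3036 = true := by decide +kernel

theorem link13_4 : allBelow (linkEntry 13) 12144 3036 = true := by decide +kernel

theorem link13_ok : allBelow (linkEntry 13) 0 15180 = true :=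
  (allBelow_glue (allBelow_glue (allBelow_glue (allBelow_glue link13_0 link13_1) link13_2) link13_3) link13_4)

theorem link14_0 : allBelow (linkEntry 14) 0 3036 = true := by decide +kernel

theorem link14_1 : allBelow (linkEntry 14) 3036 3036 = true := by decide +kernel

theorem link14_2 : allBelow (linkEntry 14) 6072 3036 = true := by decide +kernel

theorem link14_3 : allBelow (linkEntry 14) 9108 3036 = true := by decide +kernel

theorem link14_4 : allBelow (linkEntry 14) 12144 3036 = true := by decide +kernel

theorem link14_ok : allBelow (linkEntry 14) 0 15180 = true :=
  (allBelow_glue (allBelow_glue (allBelow_glue (allBelow_glue link14_0 link14_1) link14_2) link14_3) link14_4)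

theorem link15_0 : allBelow (linkEntry 15) 0 3036 = true := by decide +kernel

theorem link15_1 : allBelow (linkEntry 15) 3036 3036 = true := by decide +kernel

theorem link15_2 : allBelow (linkEntry 15) 6072 3036 = true := by decide +kernel

theorem link15_3 : allBelow (linkEntry 15) 9108 3036 = true := by decide +kernel

theorem link15_4 : allBelow (linkEntry 15) 12144 3036 = true := by decide +kernel

theorem link15_ok : allBelow (linkEntry 15) 0 15180 = true :=
  (allBelow_glue (allBelow_glue (allBelow_glue (allBelow_glue link15_0 link15_1) link15_2) link15_3) link15_4)

theorem link16_0 : allBelow (linkEntry 16) 0 3036 = true := by decide +kernel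

theorem link16_1 : allBelow (linkEntry 16) 3036 3036 = true := by decide +kernel

theorem link16_2 : allBelow (linkEntry 16) 6072 3036 = true := by decide +kernel

theorem link16_3 : allBelow (linkEntry 16) 9108 3036 = true := by decide +kernel

theorem link16_4 : allBelow (linkEntry 16) 12144 3036 = true := by decide +kernel

theorem link16_ok : allBelow (linkEntry 16) 0 15180 = true :=
  (allBelow_glue (allBelow_glue (allBelow_glue (allBelow_glue link16_0 link16_1) link16_2) link16_3) link16_4)

theorem link17_0 : allBelow (linkEntry 17) 0 3036 = true := by decide +kernel

theorem link17_1 : allBelow (linkEntry 17) 3036 3036 = true := by decide +kernel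

theorem link17_2 : allBelow (linkEntry 17) 6072 3036 = true := by decide +kernel

theorem link17_3 : allBelow (linkEntry 17) 9108 3036 = true := by decide +kernel

theorem link17_4 : allBelow (linkEntry 17) 12144 3036 = true := by decide +kernel

theorem link17_ok : allBelow (linkEntry 17) 0 15180 = true :=
  (allBelow_glue (allBelow_glue (allBelow_glue (allBelow_glue link17_0 link17_1) link17_2) link17_3) link17_4)

end H94.J4
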