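import Cfsg.Agent.H94.J4.Preds

/-! The letters respect the triples. -/

set_option autoImplicit false
set_option maxRecDepth 100000
set_option Elab.async false

namespace H94.J4

open H77.HN (allBelow allBelow_glue)

theorem link18_0 : allBelow (linkEntry 18) 0 3036 = true := by decide +kernel

theorem link18_1 : allBelow (linkEntry 18) 3036 3036 = true := by decide +kernel

theorem link18_2 : allBelow (linkEntry 18) 6072 3036 = true := by decide +kernel

theorem link18_3 : allBelow (linkEntry 18) 9108 3036 = true := by decide +kernel

theorem link18_4 : allBelow (linkEntry 18) 12144 3036 = true := by decide +kernel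

theorem link18_ok : allBelow (linkEntry 18) 0 15180 = true :=
  (allBelow_glue (allBelow_glue (allBelow_glue (allBelow_glue link18_0 link18_1) link18_2) link18_3) link18_4)

theorem link19_0 : allBelow (linkEntry 19) 0 3036 = true := by decide +kernel

theorem link19_1 : allBelow (linkEntry 19) 3036 3036 = true := by decide +kernel

theorem link19_2 : allBelow (linkEntry 19) 6072 3036 = true := by decide +kernel

theorem link19_3 : allBelow (linkEntry 19) 9108 3036 = true := by decide +kernel

theorem link19_4 : allBelow (linkEntry 19) 12144 3036 = true := by decide +kernel

theorem link19_ok : allBelow (linkEntry 19) 0 15180 = true :=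
  (allBelow_glue (allBelow_glue (allBelow_glue (allBelow_glue link19_0 link19_1) link19_2) link19_3) link19_4)

theorem link20_0 : allBelow (linkEntry 20) 0 3036 = true := by decide +kernel

theorem link20_1 : allBelow (linkEntry 20) 3036 3036 = true := by decide +kernel

theorem link20_2 : allBelow (linkEntry 20) 6072 3036 = true := by decide +kernel

theorem link20_3 : allBelow (linkEntry 20) 9108 3036 = true := by decide +kernel

theorem link20_4 : allBelow (linkEntry 20) 12144 3036 = true := by decide +kernel

theorem link20_ok : allBelow (linkEntry 20) 0 15180 = true :=
  (allBelow_glue (allBelow_glue (allBelow_glue (allBelow_glue link20_0 link20_1) link20_2) link20_3) link20_4)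

theorem link21_0 : allBelow (linkEntry 21) 0 3036 = true := by decide +kernel

theorem link21_1 : allBelow (linkEntry 21) 3036 3036 = true := by decide +kernel

theorem link21_2 : allBelow (linkEntry 21) 6072 3036 = true := by decide +kernel

theorem link21_3 : allBelow (linkEntry 21) 9108 3036 = true := by decide +kernel

theorem link21_4 : allBelow (linkEntry 21) 12144 3036 = true := by decide +kernel

theorem link21_ok : allBelow (linkEntry 21) 0 15180 = true :=
  (allBelow_glue (allBelow_glue (allBelow_glue (allBelow_glue link21_0 link21_1) link21_2) link21_3) link21_4)

theorem link22_0 : allBelow (linkEntry 22) 0 3036 = true := by decide +kernel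

theorem link22_1 : allBelow (linkEntry 22) 3036 3036 = true := by decide +kernel

theorem link22_2 : allBelow (linkEntry 22) 6072 3036 = true := by decide +kernel

theorem link22_3 : allBelow (linkEntry 22) 9108 3036 = true := by decide +kernel

theorem link22_4 : allBelow (linkEntry 22) 12144 3036 = true := by decide +kernel

theorem link22_ok : allBelow (linkEntry 22) 0 15180 = true :=
  (allBelow_glue (allBelow_glue (allBelow_glue (allBelow_glue link22_0 link22_1) link22_2) link22_3) link22_4)

theorem link23_0 : allBelow (linkEntry 23) 0 3036 = true := by decide +kernel

theorem link23_1 : allBelow (linkEntry 23) 3036 3036 = true := by decide +kernel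

theorem link23_2 : allBelow (linkEntry 23) 6072 3036 = true := by decide +kernel

theorem link23_3 : allBelow (linkEntry 23) 9108 3036 = true := by decide +kernel

theorem link23_4 : allBelow (linkEntry 23) 12144 3036 = true := by decide +kernel

theorem link23_ok : allBelow (linkEntry 23) 0 15180 = true :=
  (allBelow_glue (allBelow_glue (allBelow_glue (allBelow_glue link23_0 link23_1) link23_2) link23_3) link23_4)

end H94.J4
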