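import Cfsg.Agent.H94.J4.Preds

/-! The letters respect the triples. -/

set_option autoImplicit false
set_option maxRecDepth 100000
set_option Elab.async false

namespace H94.J4

open H77.HN (allBelow allBelow_glue)

theorem link24_0 : allBelow (linkEntry 24) 0 3036 = true := by decide +kernel

theorem link24_1 : allBelow (linkEntry 24) 3036 3036 = true := by decide +kernel

theorem link24_2 : allBelow (linkEntry 24) 6072 3036 = true := by decide +kernel

theorem link24_3 : allBelow (linkEntry 24) 9108 3036 = true := by decide +kernel

theorem link24_4 : allBelow (linkEntry 24) 12144 3036 = true := by decide +kernel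

theorem link24_ok : allBelow (linkEntry 24) 0 15180 = true :=
  (allBelow_glue (allBelow_glue (allBelow_glue (allBelow_glue link24_0 link24_1) link24_2) link24_3) link24_4)

theorem link25_0 : allBelow (linkEntry 25) 0 3036 = true := by decide +kernel

theorem link25_1 : allBelow (linkEntry 25) 3036 3036 = true := by decide +kernel

theorem link25_2 : allBelow (linkEntry 25) 6072 3036 = true := by decide +kernel

theorem link25_3 : allBelow (linkEntry 25) 9108 3036 = true := by decide +kernel

theorem link25_4 : allBelow (linkEntry 25) 12144 3036 = true := by decide +kernel

theorem link25_ok : allBelow (linkEntry 25) 0 15180 = true :=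
  (allBelow_glue (allBelow_glue (allBelow_glue (allBelow_glue link25_0 link25_1) link25_2) link25_3) link25_4)

theorem link26_0 : allBelow (linkEntry 26) 0 3036 = true := by decide +kernel

theorem link26_1 : allBelow (linkEntry 26) 3036 3036 = true := by decide +kernel

theorem link26_2 : allBelow (linkEntry 26) 6072 3036 = true := by decide +kernel

theorem link26_3 : allBelow (linkEntry 26) 9108 3036 = true := by decide +kernel

theorem link26_4 : allBelow (linkEntry 26) 12144 3036 = true := by decide +kernel

theorem link26_ok : allBelow (linkEntry 26) 0 15180 = true :=
  (allBelow_glue (allBelow_glue (allBelow_glue (allBelow_glue link26_0 link26_1) link26_2) link26_3) link26_4)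

theorem link27_0 : allBelow (linkEntry 27) 0 3036 = true := by decide +kernel

theorem link27_1 : allBelow (linkEntry 27) 3036 3036 = true := by decide +kernel

theorem link27_2 : allBelow (linkEntry 27) 6072 3036 = true := by decide +kernel

theorem link27_3 : allBelow (linkEntry 27) 9108 3036 = true := by decide +kernel

theorem link27_4 : allBelow (linkEntry 27) 12144 3036 = true := by decide +kernel

theorem link27_ok : allBelow (linkEntry 27) 0 15180 = true :=
  (allBelow_glue (allBelow_glue (allBelow_glue (allBelow_glue link27_0 link27_1) link27_2) link27_3) link27_4)

theorem link28_0 : allBelow (linkEntry 28) 0 3036 = true := by decide +kernel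

theorem link28_1 : allBelow (linkEntry 28) 3036 3036 = true := by decide +kernel

theorem link28_2 : allBelow (linkEntry 28) 6072 3036 = true := by decide +kernel

theorem link28_3 : allBelow (linkEntry 28) 9108 3036 = true := by decide +kernel

theorem link28_4 : allBelow (linkEntry 28) 12144 3036 = true := by decide +kernel

theorem link28_ok : allBelow (linkEntry 28) 0 15180 = true :=
  (allBelow_glue (allBelow_glue (allBelow_glue (allBelow_glue link28_0 link28_1) link28_2) link28_3) link28_4)

theorem link29_0 : allBelow (linkEntry 29) 0 3036 = true := by decide +kernel

theorem link29_1 : allBelow (linkEntry 29) 3036 3036 = true := by decide +kernel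

theorem link29_2 : allBelow (linkEntry 29) 6072 3036 = true := by decide +kernel

theorem link29_3 : allBelow (linkEntry 29) 9108 3036 = true := by decide +kernel

theorem link29_4 : allBelow (linkEntry 29) 12144 3036 = true := by decide +kernel

theorem link29_ok : allBelow (linkEntry 29) 0 15180 = true :=
  (allBelow_glue (allBelow_glue (allBelow_glue (allBelow_glue link29_0 link29_1) link29_2) link29_3) link29_4)

end H94.J4
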