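import Cfsg.Agent.H94.J4.Preds

/-! The letters respect the triples. -/

set_option autoImplicit false
set_option maxRecDepth 100000
set_option Elab.async false

namespace H94.J4

open H77.HN (allBelow allBelow_glue)

theorem link30_0 : allBelow (linkEntry 30) 0 3036 = true := by decide +kernel

theorem link30_1 : allBelow (linkEntry 30) 3036 3036 = true := by decide +kernel

theorem link30_2 : allBelow (linkEntry 30) 6072 3036 = true := by decide +kernel

theorem link30_3 : allBelow (linkEntry 30) 9108 3036 = true := by decide +kernel

theorem link30_4 : allBelow (linkEntry 30) 12144 3036 = true := by decide +kernel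

theorem link30_ok : allBelow (linkEntry 30) 0 15180 = true :=
  (allBelow_glue (allBelow_glue (allBelow_glue (allBelow_glue link30_0 link30_1) link30_2) link30_3) link30_4)

theorem link31_0 : allBelow (linkEntry 31) 0 3036 = true := by decide +kernel

theorem link31_1 : allBelow (linkEntry 31) 3036 3036 = true := by decide +kernel

theorem link31_2 : allBelow (linkEntry 31) 6072 3036 = true := by decide +kernel

theorem link31_3 : allBelow (linkEntry 31) 9108 3036 = true := by decide +kernel

theorem link31_4 : allBelow (linkEntry 31) 12144 3036 = true := by decide +kernel

theorem link31_ok : allBelow (linkEntry 31) 0 15180 = true :=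
  (allBelow_glue (allBelow_glue (allBelow_glue (allBelow_glue link31_0 link31_1) link31_2) link31_3) link31_4)

theorem link32_0 : allBelow (linkEntry 32) 0 3036 = true := by decide +kernel

theorem link32_1 : allBelow (linkEntry 32) 3036 3036 = true := by decide +kernel

theorem link32_2 : allBelow (linkEntry 32) 6072 3036 = true := by decide +kernel

theorem link32_3 : allBelow (linkEntry 32) 9108 3036 = true := by decide +kernel

theorem link32_4 : allBelow (linkEntry 32) 12144 3036 = true := by decide +kernel

theorem link32_ok : allBelow (linkEntry 32) 0 15180 = true :=
  (allBelow_glue (allBelow_glue (allBelow_glue (allBelow_glue link32_0 link32_1) link32_2) link32_3) link32_4)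

theorem link33_0 : allBelow (linkEntry 33) 0 3036 = true := by decide +kernel

theorem link33_1 : allBelow (linkEntry 33) 3036 3036 = true := by decide +kernel

theorem link33_2 : allBelow (linkEntry 33) 6072 3036 = true := by decide +kernel

theorem link33_3 : allBelow (linkEntry 33) 9108 3036 = true := by decide +kernel

theorem link33_4 : allBelow (linkEntry 33) 12144 3036 = true := by decide +kernel

theorem link33_ok : allBelow (linkEntry 33) 0 15180 = true :=
  (allBelow_glue (allBelow_glue (allBelow_glue (allBelow_glue link33_0 link33_1) link33_2) link33_3) link33_4)

theorem link34_0 : allBelow (linkEntry 34) 0 3036 = true := by decide +kernel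

theorem link34_1 : allBelow (linkEntry 34) 3036 3036 = true := by decide +kernel

theorem link34_2 : allBelow (linkEntry 34) 6072 3036 = true := by decide +kernel

theorem link34_3 : allBelow (linkEntry 34) 9108 3036 = true := by decide +kernel

theorem link34_4 : allBelow (linkEntry 34) 12144 3036 = true := by decide +kernel

theorem link34_ok : allBelow (linkEntry 34) 0 15180 = true :=
  (allBelow_glue (allBelow_glue (allBelow_glue (allBelow_glue link34_0 link34_1) link34_2) link34_3) link34_4)

theorem link35_0 : allBelow (linkEntry 35) 0 3036 = true := by decide +kernel

theorem link35_1 : allBelow (linkEntry 35) 3036 3036 = true := by decide +kernel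

theorem link35_2 : allBelow (linkEntry 35) 6072 3036 = true := by decide +kernel

theorem link35_3 : allBelow (linkEntry 35) 9108 3036 = true := by decide +kernel

theorem link35_4 : allBelow (linkEntry 35) 12144 3036 = true := by decide +kernel

theorem link35_ok : allBelow (linkEntry 35) 0 15180 = true :=
  (allBelow_glue (allBelow_glue (allBelow_glue (allBelow_glue link35_0 link35_1) link35_2) link35_3) link35_4)

end H94.J4
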