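import Cfsg.Agent.H94.J4.Preds

/-! The letters respect the triples. -/

set_option autoImplicit false
set_option maxRecDepth 100000
set_option Elab.async false

namespace H94.J4

open H77.HN (allBelow allBelow_glue)

theorem link36_0 : allBelow (linkEntry 36) 0 3036 = true := by decide +kernel

theorem link36_1 : allBelow (linkEntry 36) 3036 3036 = true := by decide +kernel

theorem link36_2 : allBelow (linkEntry 36) 6072 3036 = true := by decide +kernel

theorem link36_3 : allBelow (linkEntry 36) 9108 3036 = true := by decide +kernel

theorem link36_4 : allBelow (linkEntry 36) 12144 3036 = true := by decide +kernel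

theorem link36_ok : allBelow (linkEntry 36) 0 15180 = true :=
  (allBelow_glue (allBelow_glue (allBelow_glue (allBelow_glue link36_0 link36_1) link36_2) link36_3) link36_4)

theorem link37_0 : allBelow (linkEntry 37) 0 3036 = true := by decide +kernel

theorem link37_1 : allBelow (linkEntry 37) 3036 3036 = true := by decide +kernel

theorem link37_2 : allBelow (linkEntry 37) 6072 3036 = true := by decide +kernel

theorem link37_3 : allBelow (linkEntry 37) 9108 3036 = true := by decide +kernel

theorem link37_4 : allBelow (linkEntry 37) 12144 3036 = true := by decide +kernel

theorem link37_ok : allBelow (linkEntry 37) 0 15180 = true :=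
  (allBelow_glue (allBelow_glue (allBelow_glue (allBelow_glue link37_0 link37_1) link37_2) link37_3) link37_4)

theorem link38_0 : allBelow (linkEntry 38) 0 3036 = true := by decide +kernel

theorem link38_1 : allBelow (linkEntry 38) 3036 3036 = true := by decide +kernel

theorem link38_2 : allBelow (linkEntry 38) 6072 3036 = true := by decide +kernel

theorem link38_3 : allBelow (linkEntry 38) 9108 3036 = true := by decide +kernel

theorem link38_4 : allBelow (linkEntry 38) 12144 3036 = true := by decide +kernel

theorem link38_ok : allBelow (linkEntry 38) 0 15180 = true :=
  (allBelow_glue (allBelow_glue (allBelow_glue (allBelow_glue link38_0 link38_1) link38_2) link38_3) link38_4)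

theorem link39_0 : allBelow (linkEntry 39) 0 3036 = true := by decide +kernel

theorem link39_1 : allBelow (linkEntry 39) 3036 3036 = true := by decide +kernel

theorem link39_2 : allBelow (linkEntry 39) 6072 3036 = true := by decide +kernel

theorem link39_3 : allBelow (linkEntry 39) 9108 3036 = true := by decide +kernel

theorem link39_4 : allBelow (linkEntry 39) 12144 3036 = true := by decide +kernel

theorem link39_ok : allBelow (linkEntry 39) 0 15180 = true :=
  (allBelow_glue (allBelow_glue (allBelow_glue (allBelow_glue link39_0 link39_1) link39_2) link39_3) link39_4)

theorem link40_0 : allBelow (linkEntry 40) 0 3036 = true := by decide +kernel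

theorem link40_1 : allBelow (linkEntry 40) 3036 3036 = true := by decide +kernel

theorem link40_2 : allBelow (linkEntry 40) 6072 3036 = true := by decide +kernel

theorem link40_3 : allBelow (linkEntry 40) 9108 3036 = true := by decide +kernel

theorem link40_4 : allBelow (linkEntry 40) 12144 3036 = true := by decide +kernel

theorem link40_ok : allBelow (linkEntry 40) 0 15180 = true :=
  (allBelow_glue (allBelow_glue (allBelow_glue (allBelow_glue link40_0 link40_1) link40_2) link40_3) link40_4)

theorem link41_0 : allBelow (linkEntry 41) 0 3036 = true := by decide +kernel

theorem link41_1 : allBelow (linkEntry 41) 3036 3036 = true := by decide +kernel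

theorem link41_2 : allBelow (linkEntry 41) 6072 3036 = true := by decide +kernel

theorem link41_3 : allBelow (linkEntry 41) 9108 3036 = true := by decide +kernel

theorem link41_4 : allBelow (linkEntry 41) 12144 3036 = true := by decide +kernel

theorem link41_ok : allBelow (linkEntry 41) 0 15180 = true :=
  (allBelow_glue (allBelow_glue (allBelow_glue (allBelow_glue link41_0 link41_1) link41_2) link41_3) link41_4)

end H94.J4
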