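import Cfsg.Agent.H94.J4.Check.Link0
import Cfsg.Agent.H94.J4.Check.Link1
import Cfsg.Agent.H94.J4.Check.Link2
import Cfsg.Agent.H94.J4.Check.Link3
import Cfsg.Agent.H94.J4.Check.Link4
import Cfsg.Agent.H94.J4.Check.Link5
import Cfsg.Agent.H94.J4.Check.Link6

/-! All tabulated letters respect the triples. -/

set_option autoImplicit false
set_option maxRecDepth 100000

namespace H94.J4

theorem link_all : ∀ l < 42, H77.HN.allBelow (linkEntry l) 0 15180 = true := by
  intro l hl
  interval_cases l
  · exact link0_ok
  · exact link1_ok
  · exact link2_ok
  · exact link3_ok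
  · exact link4_ok
  · exact link5_ok
  · exact link6_ok
  · exact link7_ok
  · exact link8_ok
  · exact link9_ok
  · exact link10_ok
  · exact link11_ok
  · exact link12_ok
  · exact link13_ok
  · exact link14_ok
  · exact link15_ok
  · exact link16_ok
  · exact link17_ok
  · exact link18_ok
  · exact link19_ok
  · exact link20_ok
  · exact link21_ok
  · exact link22_ok
  · exact link23_ok
  · exact link24_ok
  · exact link25_ok
  · exact link26_ok
  · exact link27_ok
  · exact link28_ok
  · exact link29_ok
  · exact link30_ok
  · exact link31_ok
  · exact link32_ok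
  · exact link33_ok
  · exact link34_ok
  · exact link35_ok
  · exact link36_ok
  · exact link37_ok
  · exact link38_ok
  · exact link39_ok
  · exact link40_ok
  · exact link41_ok

end H94.J4
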