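import Cfsg.Agent.H94.J4.Preds
import Cfsg.Agent.H94.J4.Model

/-! The letters on the signed octads. -/

set_option autoImplicit false
set_option maxRecDepth 100000
set_option Elab.async false

namespace H94.J4

open H77.HN (allBelow allBelow_glue)

theorem tri_0 : allBelow triEntry 0 1518 = true := by decide +kernel

theorem tri_1 : allBelow triEntry 1518 1518 = true := by decide +kernel

theorem tri_2 : allBelow triEntry 3036 1518 = true := by decide +kernel

theorem tri_3 : allBelow triEntry 4554 1518 = true := by decide +kernel

theorem tri_4 : allBelow triEntry 6072 1518 = true := by decide +kernel

theorem tri_5 : allBelow triEntry 7590 1518 = true := by decide +kernel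

theorem tri_6 : allBelow triEntry 9108 1518 = true := by decide +kernel

theorem tri_7 : allBelow triEntry 10626 1518 = true := by decide +kernel

theorem tri_8 : allBelow triEntry 12144 1518 = true := by decide +kernel

theorem tri_9 : allBelow triEntry 13662 1518 = true := by decide +kernel

theorem tri_ok : allBelow triEntry 0 15180 = true :=
  (allBelow_glue (allBelow_glue (allBelow_glue (allBelow_glue (allBelow_glue (allBelow_glue (allBelow_glue (allBelow_glue (allBelow_glue tri_0 tri_1) tri_2) tri_3) tri_4) tri_5) tri_6) tri_7) tri_8) tri_9)

theorem small14 : smallOK 14 = true := by decide +kernel

theorem small15 : smallOK 15 = true := by decide +kernel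

theorem small16 : smallOK 16 = true := by decide +kernel

theorem small17 : smallOK 17 = true := by decide +kernel

theorem small18 : smallOK 18 = true := by decide +kernel

theorem small19 : smallOK 19 = true := by decide +kernel

theorem small20 : smallOK 20 = true := by decide +kernel

theorem small21 : smallOK 21 = true := by decide +kernel

theorem small22 : smallOK 22 = true := by decide +kernel

theorem small23 : smallOK 23 = true := by decide +kernel

theorem small24 : smallOK 24 = true := by decide +kernel

theorem small25 : smallOK 25 = true := by decide +kernel

theorem small26 : smallOK 26 = true := by decide +kernel

theorem small27 : smallOK 27 = true := by decide +kernel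

theorem small28 : smallOK 28 = true := by decide +kernel

theorem small29 : smallOK 29 = true := by decide +kernel

theorem small30 : smallOK 30 = true := by decide +kernel

theorem small31 : smallOK 31 = true := by decide +kernel

theorem small32 : smallOK 32 = true := by decide +kernel

theorem small33 : smallOK 33 = true := by decide +kernel

theorem small34 : smallOK 34 = true := by decide +kernel

theorem small35 : smallOK 35 = true := by decide +kernel

theorem small36 : smallOK 36 = true := by decide +kernel

theorem small37 : smallOK 37 = true := by decide +kernel

theorem small38 : smallOK 38 = true := by decide +kernel

theorem small39 : smallOK 39 = true := by decide +kernel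

theorem small40 : smallOK 40 = true := by decide +kernel

theorem small41 : smallOK 41 = true := by decide +kernel

theorem small_all : ∀ l, 14 ≤ l → l < 42 → smallOK l = true := by
  intro l h1 h2
  interval_cases l
  · exact small14
  · exact small15
  · exact small16
  · exact small17
  · exact small18
  · exact small19
  · exact small20
  · exact small21
  · exact small22
  · exact small23
  · exact small24
  · exact small25
  · exact small26
  · exact small27
  · exact small28
  · exact small29
  · exact small30
  · exact small31
  · exact small32
  · exact small33
  · exact small34
  · exact small35
  · exact small36
  · exact small37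
  · exact small38
  · exact small39
  · exact small40
  · exact small41

theorem undo_x : undo18 0 0 = true := by decide +kernel

theorem undo_y : undo18 1 2 = true ∧ undo18 2 1 = true := by decide +kernel

theorem undo_e : ((List.range 11).all fun j => undo18 (j + 3) (j + 3)) = true := by decide +kernel

theorem comm_e : ((List.range 11).all fun i => (List.range 11).all fun j =>
    Nat.ble j i || same18 [i + 3, j + 3] [j + 3, i + 3]) = true := by decide +kernel

theorem conj_x : ((List.range 11).all fun j =>
    same18 [0, j + 3, 0] (maskWord (colsX.getD j 0) 11)) = true := by decide +kernel

theorem conj_y : ((List.range 11).all fun j =>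
    same18 [2, j + 3, 1] (maskWord (colsY.getD j 0) 11)) = true := by decide +kernel

theorem rels18 : (H54.J4.relsP.all fun w => same18 w []) = true := by decide +kernel

end H94.J4
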