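import Cfsg.Agent.H94.J4.Preds

/-! The letters respect the triples. -/

set_option autoImplicit false
set_option maxRecDepth 100000
set_option Elab.async false

namespace H94.J4

open H77.HN (allBelow allBelow_glue)

theorem link0_0 : allBelow (linkEntry 0) 0 3036 = true := by decide +kernel

theorem link0_1 : allBelow (linkEntry 0) 3036 3036 = true := by decide +kernel

theorem link0_2 : allBelow (linkEntry 0) 6072 3036 = true := by decide +kernel

theorem link0_3 : allBelow (linkEntry 0) 9108 3036 = true := by decide +kernel

theorem link0_4 : allBelow (linkEntry 0) 12144 3036 = true := by decide +kernel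

theorem link0_ok : allBelow (linkEntry 0) 0 15180 = true :=
  (allBelow_glue (allBelow_glue (allBelow_glue (allBelow_glue link0_0 link0_1) link0_2) link0_3) link0_4)

theorem link1_0 : allBelow (linkEntry 1) 0 3036 = true := by decide +kernel

theorem link1_1 : allBelow (linkEntry 1) 3036 3036 = true := by decide +kernel

theorem link1_2 : allBelow (linkEntry 1) 6072 3036 = true := by decide +kernel

theorem link1_3 : allBelow (linkEntry 1) 9108 3036 = true := by decide +kernel

theorem link1_4 : allBelow (linkEntry 1) 12144 3036 = true := by decide +kernel

theorem link1_ok : allBelow (linkEntry 1) 0 15180 = true :=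
  (allBelow_glue (allBelow_glue (allBelow_glue (allBelow_glue link1_0 link1_1) link1_2) link1_3) link1_4)

theorem link2_0 : allBelow (linkEntry 2) 0 3036 = true := by decide +kernel

theorem link2_1 : allBelow (linkEntry 2) 3036 3036 = true := by decide +kernel

theorem link2_2 : allBelow (linkEntry 2) 6072 3036 = true := by decide +kernel

theorem link2_3 : allBelow (linkEntry 2) 9108 3036 = true := by decide +kernel

theorem link2_4 : allBelow (linkEntry 2) 12144 3036 = true := by decide +kernel

theorem link2_ok : allBelow (linkEntry 2) 0 15180 = true :=
  (allBelow_glue (allBelow_glue (allBelow_glue (allBelow_glue link2_0 link2_1) link2_2) link2_3) link2_4)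

theorem link3_0 : allBelow (linkEntry 3) 0 3036 = true := by decide +kernel

theorem link3_1 : allBelow (linkEntry 3) 3036 3036 = true := by decide +kernel

theorem link3_2 : allBelow (linkEntry 3) 6072 3036 = true := by decide +kernel

theorem link3_3 : allBelow (linkEntry 3) 9108 3036 = true := by decide +kernel

theorem link3_4 : allBelow (linkEntry 3) 12144 3036 = true := by decide +kernel

theorem link3_ok : allBelow (linkEntry 3) 0 15180 = true :=
  (allBelow_glue (allBelow_glue (allBelow_glue (allBelow_glue link3_0 link3_1) link3_2) link3_3) link3_4)

theorem link4_0 : allBelow (linkEntry 4) 0 3036 = true := by decide +kernel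

theorem link4_1 : allBelow (linkEntry 4) 3036 3036 = true := by decide +kernel

theorem link4_2 : allBelow (linkEntry 4) 6072 3036 = true := by decide +kernel

theorem link4_3 : allBelow (linkEntry 4) 9108 3036 = true := by decide +kernel

theorem link4_4 : allBelow (linkEntry 4) 12144 3036 = true := by decide +kernel

theorem link4_ok : allBelow (linkEntry 4) 0 15180 = true :=
  (allBelow_glue (allBelow_glue (allBelow_glue (allBelow_glue link4_0 link4_1) link4_2) link4_3) link4_4)

theorem link5_0 : allBelow (linkEntry 5) 0 3036 = true := by decide +kernel

theorem link5_1 : allBelow (linkEntry 5) 3036 3036 = true := by decide +kernel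

theorem link5_2 : allBelow (linkEntry 5) 6072 3036 = true := by decide +kernel

theorem link5_3 : allBelow (linkEntry 5) 9108 3036 = true := by decide +kernel

theorem link5_4 : allBelow (linkEntry 5) 12144 3036 = true := by decide +kernel

theorem link5_ok : allBelow (linkEntry 5) 0 15180 = true :=
  (allBelow_glue (allBelow_glue (allBelow_glue (allBelow_glue link5_0 link5_1) link5_2) link5_3) link5_4)

end H94.J4
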